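/-
Products of two commuting members at type M(24): telling apart the two kinds of triangles they form.
-/
import Cfsg.Agent.H98.M24.Glue

set_option autoImplicit false
set_option linter.unusedSectionVars false

namespace H98.M24

open Cfsg H99 H65.Fischer

universe u

variable {G : Type u} [Group G] {D : Set G}

/-- A product of two commuting members. -/
def IsPair (D : Set G) (x : G) : Prop := ∃ a ∈ D, ∃ b ∈ perp D a, a * b = x

/-- Two such products whose product is again one. -/
def Tri (D : Set G) (x y : G) : Prop :=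
  IsPair D x ∧ IsPair D y ∧ x ≠ y ∧ Commute x y ∧ IsPair D (x * y)

/-- Such a triangle with few further triangles on it. -/
def Shr (D : Set G) (x y : G) : Prop := Tri D x y ∧ {w | Tri D w x ∧ Tri D w y}.ncard ≤ 694

lemma pair_comm {a b : G} (h : b ∈ perp D a) : a * b = b * a := h.2.2.eq

lemma pair_cl {a b : G} (ha : a ∈ D) (h : b ∈ perp D a) : H99.Fi.IsCl D [a, b] := by
  refine ⟨List.nodup_cons.2 ⟨by simpa using h.2.1.symm, List.nodup_singleton b⟩, ?_, ?_⟩
  · simp [ha, h.1]
  · simp only [List.mem_cons, List.not_mem_nil, or_false]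
    rintro p (rfl | rfl) q (rfl | rfl)
    exacts [Commute.refl _, h.2.2, h.2.2.symm, Commute.refl _]

section

variable [Finite G] (hT : IsThreeTranspositionSet D) (hconj : ∀ g : G, ∀ x ∈ D, g * x * g⁻¹ ∈ D)
  (hrel : H99.Fi.NoRel D 7)
include hT hconj hrel

lemma pair_unique {a b c e : G} (ha : a ∈ D) (hb : b ∈ perp D a) (hc : c ∈ D) (he : e ∈ perp D c)
    (h : a * b = c * e) : (a = c ∧ b = e) ∨ (a = e ∧ b = c) := by
  have hp := H99.Fi.factor_unique hT hconj hrel (pair_cl ha hb) (pair_cl hc he) (by simp)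
    (by simp) (by simpa using h)
  have h1 : a = c ∨ a = e := by simpa using (hp.mem_iff.1 (by simp : a ∈ [a, b]))
  have h2 : b = c ∨ b = e := by simpa using (hp.mem_iff.1 (by simp : b ∈ [a, b]))
  rcases h1 with h1 | h1 <;> rcases h2 with h2 | h2
  · exact absurd (h1.trans h2.symm) hb.2.1.symm
  · exact Or.inl ⟨h1, h2⟩
  · exact Or.inr ⟨h1, h2⟩
  · exact absurd (h1.trans h2.symm) hb.2.1.symm

lemma pair_conj {x c e : G} (hc : c ∈ D) (he : e ∈ perp D c) (h : Commute x (c * e)) :
    (cj x c = c ∧ cj x e = e) ∨ (cj x c = e ∧ cj x e = c) := by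
  refine pair_unique hT hconj hrel (hconj x c hc) (perp_conj hconj x he) hc he ?_
  show x * c * x⁻¹ * (x * e * x⁻¹) = c * e
  rw [show x * c * x⁻¹ * (x * e * x⁻¹) = x * (c * e) * x⁻¹ by group, h.eq, mul_inv_cancel_right]

/-- A triangle either shares a member, or is the one of a four-point symmetric group. -/
lemma tri_cases {a b c e : G} (ha : a ∈ D) (hb : b ∈ perp D a) (hc : c ∈ D) (he : e ∈ perp D c)
    (h : Tri D (a * b) (c * e)) (hac : a ≠ c) (hae : a ≠ e) (hbc : b ≠ c) (hbe : b ≠ e) :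
    ¬ Commute c a ∧ ¬ Commute c b ∧ cj (a * b) c = e := by
  obtain ⟨-, -, -, hcom, p, hp, q, hq, hpq⟩ := h
  rcases pair_conj hT hconj hrel hc he hcom with ⟨h1, h2⟩ | ⟨h1, h2⟩
  · exfalso
    obtain ⟨ca, cb⟩ := H99.Fi.commute_of_pair hT ha hb.1 hc hb.2.2 hb.2.1.symm
      (cj_eq_iff.1 h1).symm
    obtain ⟨ea, eb⟩ := H99.Fi.commute_of_pair hT ha hb.1 he.1 hb.2.2 hb.2.1.symm
      (cj_eq_iff.1 h2).symm
    have hall : ∀ t ∈ [a, b, c, e], Commute t p ∧ Commute t q := by
      have hkey : ∀ t, t ∈ D → Commute t (a * b) → Commute t (c * e) → Commute t p ∧ Commute t q :=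
        fun t ht h3 h4 => H99.Fi.commute_of_pair hT hp hq.1 ht hq.2.2 hq.2.1.symm
          (hpq ▸ h3.mul_right h4)
      intro t ht
      simp only [List.mem_cons, List.not_mem_nil, or_false] at ht
      rcases ht with rfl | rfl | rfl | rfl
      · exact hkey t ha ((Commute.refl t).mul_right hb.2.2) (ca.symm.mul_right ea.symm)
      · exact hkey t hb.1 (hb.2.2.symm.mul_right (Commute.refl t)) (cb.symm.mul_right eb.symm)
      · exact hkey t hc (ca.mul_right cb) ((Commute.refl t).mul_right he.2.2)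
      · exact hkey t he.1 (ea.mul_right eb) (he.2.2.symm.mul_right (Commute.refl t))
    have hcl : H99.Fi.IsCl D [a, b, c, e] := by
      refine ⟨?_, ?_, ?_⟩
      · simp [hb.2.1.symm, hac, hae, hbc, hbe, he.2.1.symm]
      · simp [ha, hb.1, hc, he.1]
      · simp only [List.mem_cons, List.not_mem_nil, or_false]
        rintro r (rfl | rfl | rfl | rfl) t (rfl | rfl | rfl | rfl)
        all_goals first
          | exact Commute.refl _
          | exact hb.2.2
          | exact hb.2.2.symm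
          | exact he.2.2
          | exact he.2.2.symm
          | exact ca
          | exact ca.symm
          | exact cb
          | exact cb.symm
          | exact ea
          | exact ea.symm
          | exact eb
          | exact eb.symm
    have hperm := H99.Fi.eq_of_prod hT hrel hcl (pair_cl hp hq) (fun r hr t ht => by
      simp only [List.mem_cons, List.not_mem_nil, or_false] at ht
      rcases ht with rfl | rfl
      exacts [(hall r hr).1, (hall r hr).2]) (by simp) (by simp [hpq, mul_assoc])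
    simpa using hperm.length_eq
  · have hfix : cj (a * b) c ≠ c := by rw [h1]; exact he.2.1
    refine ⟨fun ca => ?_, fun cb => ?_, h1⟩
    · have hx : cj (a * b) c = cj b c := by
        rw [hb.2.2.eq, cj_mul, cj_eq ca.symm]
      rw [hx] at h1 hfix
      have hcb : ¬ Commute b c := fun h => hfix (cj_eq h)
      refine (tt_third hT hconj hb.1 hc hcb).2.2 ?_
      rw [← cj_of_sq (tt_mul_self hT hb.1), h1]
      exact he.2.2
    · have hx : cj (a * b) c = cj a c := by rw [cj_mul, cj_eq cb.symm]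
      rw [hx] at h1 hfix
      have hcb : ¬ Commute a c := fun h => hfix (cj_eq h)
      refine (tt_third hT hconj ha hc hcb).2.2 ?_
      rw [← cj_of_sq (tt_mul_self hT ha), h1]
      exact he.2.2

omit hrel in
/-- The four-point symmetric group on a commuting pair and a member moved by both. -/
lemma klein {a b f : G} (ha : a ∈ D) (hb : b ∈ perp D a) (hfD : f ∈ D) (hfa : ¬ Commute f a)
    (hfb : ¬ Commute f b) :
    cj (a * b) f ∈ perp D f ∧ f * b * f ∈ perp D (f * a * f) ∧
      Commute (a * b) (f * cj (a * b) f) ∧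
      a * b * (f * cj (a * b) f) = f * a * f * (f * b * f) := by
  have sa := tt_mul_self hT ha
  have sb := tt_mul_self hT hb.1
  have sf := tt_mul_self hT hfD
  have hbf := tt_braid hT hfD hb.1 hfb
  have haf := tt_braid hT hfD ha hfa
  have hba : b * a = a * b := hb.2.2.symm.eq
  have hgen : cj (a * b) f = a * (b * f * b) * a := by
    rw [cj_mul, cj_of_sq sa, cj_of_sq sb]
  have hgen' : cj (a * b) f = b * (a * f * a) * b := by
    rw [hb.2.2.eq, cj_mul, cj_of_sq sb, cj_of_sq sa]
  set g := cj (a * b) f with hg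
  have h1 : g = b * f * a * f * b := by rw [hgen', ← haf]; group
  have hcom : Commute f g := by
    rw [← cj_eq_iff, cj_of_sq sf, h1,
      show f * (b * f * a * f * b) * f = f * b * f * a * (f * b * f) by group, hbf]
    calc b * f * b * a * (b * f * b) = b * f * (b * a * b) * f * b := by group
      _ = b * f * a * f * b := by rw [hba, mul_assoc a b b, sb, mul_one]
  have hne : g ≠ f := fun e => hfb (by
    have h2 : cj b f = cj a f := by
      have h3 := congrArg (cj a) e
      rw [hgen, ← cj_of_sq sb, ← cj_of_sq sa (cj b f), ← cj_mul, sa, cj_one] at h3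
      exact h3
    rw [cj_of_sq sb, cj_of_sq sa, ← hbf, ← haf] at h2
    exact absurd (mul_left_cancel (mul_right_cancel h2)) hb.2.1)
  have hgD : g ∈ D := hconj _ f hfD
  refine ⟨⟨hgD, hne, hcom⟩, ?_, ?_, ?_⟩
  · have := perp_conj hconj f hb
    rwa [tt_inv hT hfD] at this
  · rw [← cj_eq_iff]
    show a * b * (f * g) * (a * b)⁻¹ = f * g
    have hinv : (a * b)⁻¹ = a * b := by
      rw [mul_inv_rev, tt_inv hT ha, tt_inv hT hb.1, hba]
    have hgg : cj (a * b) g = f := by
      rw [hg, ← cj_mul]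
      have : a * b * (a * b) = 1 := by
        nth_rewrite 2 [← hba]
        rw [mul_assoc, ← mul_assoc b b a, sb, one_mul, sa]
      rw [this, cj_one]
    rw [show a * b * (f * g) * (a * b)⁻¹ = cj (a * b) f * cj (a * b) g by simp [cj, mul_assoc],
      hgg, ← hg]
    exact hcom.symm.eq
  · rw [h1]
    calc a * b * (f * (b * f * a * f * b)) = a * (b * f * b) * f * a * f * b := by group
      _ = a * (f * b * f) * f * a * f * b := by rw [hbf]
      _ = a * f * b * (f * f) * a * f * b := by group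
      _ = a * f * (b * a) * f * b := by rw [sf]; group
      _ = a * f * a * (b * f * b) := by rw [hba]; group
      _ = a * f * a * (f * b * f) := by rw [hbf]
      _ = f * a * f * (f * b * f) := by rw [haf]

end

namespace Facts

variable [Finite G] (F : Facts D) (hrel : H99.Fi.NoRel D 7)
include F hrel

lemma tri_share {a b c : G} (ha : a ∈ D) (hb : b ∈ perp D a) (hc : c ∈ perp D a ∩ perp D b) :
    Tri D (a * b) (a * c) := by
  refine ⟨⟨a, ha, b, hb, rfl⟩, ⟨a, ha, c, hc.1, rfl⟩, fun h => hc.2.2.1 (mul_left_cancel h).symm,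
    ((Commute.refl a).mul_right hc.1.2.2).mul_left (hb.2.2.symm.mul_right hc.2.2.2),
    b, hb.1, c, hc.2, ?_⟩
  calc b * c = a * a * b * c := by rw [F.ce.sq a ha, one_mul]
    _ = a * (b * a) * c := by rw [← hb.2.2.eq]; group
    _ = a * b * (a * c) := by group

/-- Two products sharing a member lie in at most `694` triangles. -/
lemma shr_share {a b c : G} (ha : a ∈ D) (hb : b ∈ perp D a) (hc : c ∈ perp D a ∩ perp D b) :
    Shr D (a * b) (a * c) := by
  classical
  refine ⟨F.tri_share hrel ha hb hc, ?_⟩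
  have hT := F.set.tt
  set S := perp D a ∩ perp D b ∩ perp D c with hS
  have hcard : (insert (b * c) ((fun f => a * f) '' S)).ncard ≤ 694 := by
    refine (Set.ncard_insert_le _ _).trans ?_
    have h1 := Set.ncard_image_le (f := fun f => a * f) (Set.toFinite S)
    have h2 : S.ncard = 693 := by
      rw [← (F.srg2 a ha b hb).deg c hc, hS]
      congr 1
      ext z
      simp only [perp, Set.mem_inter_iff, Set.mem_ofPred_eq]
      tauto
    omega
  refine le_trans (Set.ncard_le_ncard ?_ (Set.toFinite _)) hcard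
  intro w hw
  obtain ⟨hwx, hwy⟩ := hw
  obtain ⟨p, hp, q, hq, rfl⟩ := hwx.1
  by_cases hpa : p = a
  · subst hpa
    refine Or.inr ⟨q, ⟨⟨hq, ?_⟩, ?_⟩, rfl⟩
    · by_cases hqb : q = b
      · exact absurd (by rw [hqb]) hwx.2.2.1
      obtain ⟨r, hr, t, ht, hrt⟩ := hwx.2.2.2.2
      have hcm : Commute (p * q) (p * b) := hwx.2.2.2.1
      have h1 : cj (p * q) b = b := by
        rcases pair_conj hT F.conj hrel hp hb hcm with ⟨-, h⟩ | ⟨h, -⟩
        · exact h
        · rw [cj_eq ((Commute.refl p).mul_left hq.2.2.symm)] at h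
          exact absurd h hb.2.1.symm
      exact ⟨hq.1, hqb, ((H99.Fi.commute_of_pair hT hp hq.1 hb.1 hq.2.2 hq.2.1.symm
        (cj_eq_iff.1 h1).symm).2)⟩
    · by_cases hqc : q = c
      · exact absurd (by rw [hqc]) hwy.2.2.1
      have hcm : Commute (p * q) (p * c) := hwy.2.2.2.1
      have h1 : cj (p * q) c = c := by
        rcases pair_conj hT F.conj hrel hp hc.1 hcm with ⟨-, h⟩ | ⟨h, -⟩
        · exact h
        · rw [cj_eq ((Commute.refl p).mul_left hq.2.2.symm)] at h
          exact absurd h hc.1.2.1.symm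
      exact ⟨hq.1, hqc, ((H99.Fi.commute_of_pair hT hp hq.1 hc.1.1 hq.2.2 hq.2.1.symm
        (cj_eq_iff.1 h1).symm).2)⟩
  by_cases hqa : q = a
  · subst hqa
    have e : p * q = q * p := hq.2.2.eq
    have hp' : p ∈ perp D q := perp_mem_symm hp hq
    have key : ∀ {z : G}, z ∈ perp D q → p * q ≠ q * z → Commute (p * q) (q * z) → p ∈ perp D z := by
      intro z hz hne hcm
      have hpz : p ≠ z := fun h => hne (by rw [e, h])
      have h1 : cj (p * q) z = z := by
        rcases pair_conj hT F.conj hrel ha hz hcm with ⟨-, h⟩ | ⟨h, -⟩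
        · exact h
        · rw [cj_eq (hq.2.2.mul_left (Commute.refl q))] at h
          exact absurd h hz.2.1.symm
      exact ⟨hp, hpz, ((H99.Fi.commute_of_pair hT hp hq.1 hz.1 hq.2.2 hq.2.1.symm
        (cj_eq_iff.1 h1).symm).1)⟩
    exact Or.inr ⟨p, ⟨⟨hp', key hb hwx.2.2.1 hwx.2.2.2.1⟩, key hc.1 hwy.2.2.1 hwy.2.2.2.1⟩, e.symm⟩
  -- none of the two members is `a`: it is `b * c`
  refine Or.inl ?_
  have hsw : ∀ {s t : G}, t ∈ perp D s → s * t = t * s := fun h => h.2.2.eq
  -- `a` against the third product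
  have hax : ∀ {z : G}, z ∈ perp D a → Tri D (p * q) (a * z) → p ≠ z → q ≠ z →
      ¬ Commute p a ∧ ¬ Commute q a ∧ cj (p * q) a = z := by
    intro z hz hz' hpz hqz
    obtain ⟨h1, h2, h3⟩ := tri_cases hT F.conj hrel hp hq ha hz hz' hpa hpz hqa hqz
    exact ⟨fun h => h1 h.symm, fun h => h2 h.symm, h3⟩
  by_cases hpb : p = b
  · subst hpb
    by_cases hqc : q = c
    · rw [hqc]
    obtain ⟨h1, -, -⟩ := hax hc.1 hwy (fun h => hc.2.2.1 h.symm) hqc
    exact absurd hb.2.2.symm h1
  by_cases hqb : q = b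
  · subst hqb
    by_cases hpc : p = c
    · rw [hpc]; exact hc.2.2.2.symm.eq
    obtain ⟨-, h2, -⟩ := hax hc.1 hwy hpc (fun h => hc.2.2.1 h.symm)
    exact absurd hb.2.2.symm h2
  obtain ⟨h1, h2, h3⟩ := hax hb hwx hpb hqb
  by_cases hpc : p = c
  · exact absurd (hpc ▸ hc.1.2.2.symm) h1
  by_cases hqc : q = c
  · exact absurd (hqc ▸ hc.1.2.2.symm) h2
  obtain ⟨-, -, h4⟩ := hax hc.1 hwy hpc hqc
  exact absurd (h4.symm.trans h3) hc.2.2.1

/-- A triangle without a shared member lies in more triangles. -/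
lemma share_of_shr {x y : G} (h : Shr D x y) :
    ∃ a b c, a ∈ D ∧ b ∈ perp D a ∧ c ∈ perp D a ∩ perp D b ∧ x = a * b ∧ y = a * c := by
  classical
  have hT := F.set.tt
  obtain ⟨htri, hle⟩ := h
  obtain ⟨a, ha, b, hb, rfl⟩ := htri.1
  obtain ⟨c, hc, e, he, rfl⟩ := htri.2.1
  have hsh : ∀ {a b e : G}, a ∈ D → b ∈ perp D a → e ∈ perp D a → Tri D (a * b) (a * e) →
      e ∈ perp D a ∩ perp D b := by
    intro a b e ha hb he ht
    have hne : e ≠ b := fun h => ht.2.2.1 (by rw [h])
    have h1 : cj (a * b) e = e := by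
      rcases pair_conj hT F.conj hrel ha he ht.2.2.2.1 with ⟨-, h⟩ | ⟨h, -⟩
      · exact h
      · rw [cj_eq ((Commute.refl a).mul_left hb.2.2.symm)] at h
        exact absurd h he.2.1.symm
    exact ⟨he, he.1, hne, ((H99.Fi.commute_of_pair hT ha hb.1 he.1 hb.2.2 hb.2.1.symm
      (cj_eq_iff.1 h1).symm).2).symm⟩
  have hba := perp_mem_symm ha hb
  have hec := perp_mem_symm hc he
  by_cases hac : a = c
  · subst hac
    exact ⟨a, b, e, ha, hb, hsh ha hb he htri, rfl, rfl⟩
  by_cases hae : a = e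
  · subst hae
    exact ⟨a, b, c, ha, hb, hsh ha hb hec (by rwa [pair_comm he] at htri), rfl, pair_comm he⟩
  by_cases hbc : b = c
  · subst hbc
    exact ⟨b, a, e, hb.1, hba, hsh hb.1 hba he (by rwa [pair_comm hb] at htri), pair_comm hb, rfl⟩
  by_cases hbe : b = e
  · subst hbe
    exact ⟨b, a, c, hb.1, hba, hsh hb.1 hba hec (by rwa [pair_comm hb, pair_comm he] at htri),
      pair_comm hb, pair_comm he⟩
  exfalso
  obtain ⟨hca, hcb, hxc⟩ := tri_cases hT F.conj hrel ha hb hc he htri hac hae hbc hbe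
  obtain ⟨-, hhk, -, hxy⟩ := klein hT F.conj ha hb hc hca hcb
  rw [hxc] at hxy
  set i := c * a * c with hi
  set j := c * b * c with hj
  have hiD : i ∈ D := (tt_third hT F.conj hc ha hca).1
  have hia : ¬ Commute i a := fun h => (tt_third hT F.conj hc ha hca).2.2 h.symm
  have hjb : ¬ Commute j b := fun h => (tt_third hT F.conj hc hb.1 hcb).2.2 h.symm
  have hic : ¬ Commute i c := fun h => (tt_third hT F.conj hc ha hca).2.1 h.symm
  have hja : ¬ Commute j a := by
    intro h
    have hxj : cj (a * b) j = cj b j := by rw [hb.2.2.eq, cj_mul, cj_eq h.symm]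
    have hxj' : cj (a * b) j = j := by
      have : Commute (a * b) (i * j) := by
        rw [← hxy]
        exact (Commute.refl _).mul_right htri.2.2.2.1
      rcases pair_conj hT F.conj hrel hiD hhk this with ⟨-, h'⟩ | ⟨-, h'⟩
      · exact h'
      · rw [hxj, cj_of_sq (tt_mul_self hT hb.1)] at h'
        have h5 := (tt_third hT F.conj hb.1 hhk.1 fun h => hjb h.symm).2.2
        exact absurd (h' ▸ hhk.2.2.symm) h5
    exact hjb ((cj_eq_iff.1 (hxj.symm.trans hxj')).symm)
  have hib : ¬ Commute i b := by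
    intro h
    have : Commute (a * b) (i * j) := by
      rw [← hxy]
      exact (Commute.refl _).mul_right htri.2.2.2.1
    have hxi : cj (a * b) i = cj a i := by rw [cj_mul, cj_eq h.symm]
    rcases pair_conj hT F.conj hrel hiD hhk this with ⟨h', -⟩ | ⟨h', -⟩
    · exact hia ((cj_eq_iff.1 (hxi.symm.trans h')).symm)
    · rw [hxi, cj_of_sq (tt_mul_self hT ha)] at h'
      exact absurd (h' ▸ hhk.2.2) (tt_third hT F.conj ha hiD fun h => hia h.symm).2.2
  -- common partners of `i` and `j` moved by all four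
  set E := perp D i ∩ perp D j with hE
  have hEc : E.ncard = 3510 := F.set.adjCount hiD hhk
  have hij : ∀ {t : G}, t ∈ D → ¬ Commute i t → ¬ Commute j t → (E ∩ perp D t).ncard = 360 := by
    intro t ht h1 h2
    have hcl : Closed (perp D i ∩ perp D t) (perp D i ∩ perp D t) :=
      ⟨subset_rfl, fun _ _ _ hw _ => hw⟩
    have h9 := F.closed_ninth hiD ht h1 hcl hhk (fun h => h2 h.2.2.symm)
    rw [F.good.srg.nonadj i hiD t ht h1] at h9
    have : E ∩ perp D t = perp D i ∩ perp D t ∩ perp D j := by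
      ext z; simp only [hE, Set.mem_inter_iff]; tauto
    rw [this]
    omega
  have hjc : ¬ Commute j c := fun h => (tt_third hT F.conj hc hb.1 hcb).2.1 h.symm
  have hce : ∀ {t : G}, Commute t (a * b) → ¬ Commute t c → ¬ Commute t e := fun {t} h1 h2 h3 => by
    refine h2 ?_
    have := (cj_commute (a * b)).2 h3
    rw [cj_eq h1.symm, ← hxc, ← cj_mul] at this
    have hsq : a * b * (a * b) = 1 := by
      nth_rewrite 2 [pair_comm hb]
      rw [mul_assoc, ← mul_assoc b b a, tt_mul_self hT hb.1, one_mul, tt_mul_self hT ha]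
    rwa [hsq, cj_one] at this
  have hswap : cj (a * b) i = j ∨ cj (a * b) i = i := by
    have : Commute (a * b) (i * j) := by
      rw [← hxy]
      exact (Commute.refl _).mul_right htri.2.2.2.1
    rcases pair_conj hT F.conj hrel hiD hhk this with ⟨h', -⟩ | ⟨h', -⟩
    · exact Or.inr h'
    · exact Or.inl h'
  have hie : ¬ Commute i e := by
    intro h
    rcases hswap with h' | h'
    · refine hjc ?_
      have := (cj_commute (a * b)).2 h
      rw [h', ← hxc, ← cj_mul] at this
      have hsq : a * b * (a * b) = 1 := by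
        nth_rewrite 2 [pair_comm hb]
        rw [mul_assoc, ← mul_assoc b b a, tt_mul_self hT hb.1, one_mul, tt_mul_self hT ha]
      rwa [hsq, cj_one] at this
    · exact hce (cj_eq_iff.1 h').symm hic h
  have hje : ¬ Commute j e := by
    intro h
    rcases hswap with h' | h'
    · refine hic ?_
      have := (cj_commute (a * b)).2 h
      have hsq : a * b * (a * b) = 1 := by
        nth_rewrite 2 [pair_comm hb]
        rw [mul_assoc, ← mul_assoc b b a, tt_mul_self hT hb.1, one_mul, tt_mul_self hT ha]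
      rw [← h', ← hxc, ← cj_mul, ← cj_mul, hsq, cj_one, cj_one] at this
      exact this
    · exact hia (((H99.Fi.commute_of_pair hT ha hb.1 hiD hb.2.2 hb.2.1.symm
        (cj_eq_iff.1 h').symm).1))
  set U := E \ (perp D a ∪ perp D b ∪ perp D c ∪ perp D e) with hU
  have hUc : 2070 ≤ U.ncard := by
    have h1 := Set.ncard_union_le (E ∩ perp D a ∪ E ∩ perp D b ∪ E ∩ perp D c) (E ∩ perp D e)
    have h2 := Set.ncard_union_le (E ∩ perp D a ∪ E ∩ perp D b) (E ∩ perp D c)
    have h3 := Set.ncard_union_le (E ∩ perp D a) (E ∩ perp D b)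
    rw [hij ha hia hja, hij hb.1 hib hjb] at h3
    rw [hij hc hic hjc] at h2
    rw [hij he.1 hie hje] at h1
    have hsub : E ⊆ U ∪ (E ∩ perp D a ∪ E ∩ perp D b ∪ E ∩ perp D c ∪ E ∩ perp D e) := by
      intro z hz
      simp only [hU, Set.mem_union, Set.mem_inter_iff, Set.mem_sdiff]
      tauto
    have h4 := (Set.ncard_le_ncard hsub (Set.toFinite _)).trans (Set.ncard_union_le _ _)
    omega
  have hne : ∀ f ∈ U, f ≠ a ∧ f ≠ b ∧ f ≠ c ∧ f ≠ e := fun f hf =>
    ⟨fun h => hia (h ▸ hf.1.1.2.2), fun h => hib (h ▸ hf.1.1.2.2),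
      fun h => hic (h ▸ hf.1.1.2.2), fun h => hie (h ▸ hf.1.1.2.2)⟩
  have hnc : ∀ f ∈ U, ¬ Commute f a ∧ ¬ Commute f b ∧ ¬ Commute f c ∧ ¬ Commute f e := fun f hf => by
    obtain ⟨n1, n2, n3, n4⟩ := hne f hf
    have hfD : f ∈ D := hf.1.1.1
    exact ⟨fun h => hf.2 (Or.inl (Or.inl (Or.inl ⟨hfD, n1, h.symm⟩))),
      fun h => hf.2 (Or.inl (Or.inl (Or.inr ⟨hfD, n2, h.symm⟩))),
      fun h => hf.2 (Or.inl (Or.inr ⟨hfD, n3, h.symm⟩)),
      fun h => hf.2 (Or.inr ⟨hfD, n4, h.symm⟩)⟩
  have hmap : ∀ f ∈ U, f * cj (a * b) f ∈ {w | Tri D w (a * b) ∧ Tri D w (c * e)} := by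
    intro f hf
    obtain ⟨n1, n2, n3, n4⟩ := hnc f hf
    have hfD : f ∈ D := hf.1.1.1
    have hfij : cj (i * j) f = f := cj_eq (hf.1.1.2.2.mul_left hf.1.2.2.2)
    have hsame : cj (c * e) f = cj (a * b) f := by
      have hinv : c * e = a * b * (i * j) := by
        rw [← hxy, ← mul_assoc]
        nth_rewrite 2 [pair_comm hb]
        rw [mul_assoc a b, ← mul_assoc b b, tt_mul_self hT hb.1, one_mul,
          tt_mul_self hT ha, one_mul]
      rw [hinv, cj_mul, hfij]
    obtain ⟨g1, g2, g3, g4⟩ := klein hT F.conj ha hb hfD n1 n2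
    obtain ⟨-, k2, k3, k4⟩ := klein hT F.conj hc he hfD n3 n4
    rw [hsame] at k3 k4
    have hw : IsPair D (f * cj (a * b) f) := ⟨f, hfD, _, g1, rfl⟩
    refine ⟨⟨hw, htri.1, ?_, g3.symm, ?_⟩, ⟨hw, htri.2.1, ?_, k3.symm, ?_⟩⟩
    · intro h
      rcases pair_unique hT F.conj hrel hfD g1 ha hb h with ⟨h', -⟩ | ⟨h', -⟩
      exacts [(hne f hf).1 h', (hne f hf).2.1 h']
    · rw [g3.symm.eq, g4]
      exact ⟨_, (tt_third hT F.conj hfD ha n1).1, _, g2, rfl⟩
    · intro h
      rcases pair_unique hT F.conj hrel hfD g1 hc he h with ⟨h', -⟩ | ⟨h', -⟩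
      exacts [(hne f hf).2.2.1 h', (hne f hf).2.2.2 h']
    · rw [k3.symm.eq, k4]
      exact ⟨_, (tt_third hT F.conj hfD hc n3).1, _, k2, rfl⟩
  have hfib : U.ncard ≤ 2 * ({w | Tri D w (a * b) ∧ Tri D w (c * e)}).ncard := by
    set W := {w | Tri D w (a * b) ∧ Tri D w (c * e)} with hW
    rw [Set.ncard_eq_toFinset_card U (Set.toFinite U), Set.ncard_eq_toFinset_card W (Set.toFinite W)]
    refine Finset.card_le_mul_card_image_of_maps_to (f := fun f => f * cj (a * b) f)
      (fun f hf => by simpa using hmap f (by simpa using hf)) 2 fun w _ => ?_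
    by_cases hw : ∃ f₀ ∈ U, f₀ * cj (a * b) f₀ = w
    · obtain ⟨f₀, hf₀, rfl⟩ := hw
      refine (Finset.card_le_card (t := {f₀, cj (a * b) f₀}) fun f hf => ?_).trans Finset.card_le_two
      simp only [Finset.mem_filter, Set.Finite.mem_toFinset] at hf
      obtain ⟨g1, -⟩ := klein hT F.conj ha hb hf.1.1.1.1 (hnc f hf.1).1 (hnc f hf.1).2.1
      obtain ⟨g2, -⟩ := klein hT F.conj ha hb hf₀.1.1.1 (hnc f₀ hf₀).1 (hnc f₀ hf₀).2.1
      rcases pair_unique hT F.conj hrel hf.1.1.1.1 g1 hf₀.1.1.1 g2 hf.2 with ⟨h', -⟩ | ⟨h', -⟩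
      · simp [h']
      · simp [h']
    · refine le_trans (le_of_eq ?_) (Nat.zero_le 2)
      rw [Finset.card_eq_zero, Finset.filter_eq_empty_iff]
      exact fun f hf he => hw ⟨f, by simpa using hf, he⟩
  omega

end Facts

end H98.M24
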