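/-
An automorphism of the commutator subgroup at type M(24) comes from a permutation of the class.
-/
import Cfsg.Agent.H98.M24.Edges

set_option autoImplicit false
set_option linter.unusedSectionVars false

namespace H98.M24

open Cfsg H99 H65.Fischer

universe u

variable {G : Type u} [Group G] {D : Set G}

/-- A permutation of the products of commuting pairs respecting their group relations. -/
structure PairAut (D : Set G) (α : G → G) : Prop where
  maps : ∀ x, IsPair D x → IsPair D (α x)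
  inj : ∀ x y, IsPair D x → IsPair D y → α x = α y → x = y
  surj : ∀ y, IsPair D y → ∃ x, IsPair D x ∧ α x = y
  mul : ∀ x y, IsPair D x → IsPair D y → IsPair D (x * y) → α (x * y) = α x * α y
  tri : ∀ x y, IsPair D x → IsPair D y → (Tri D (α x) (α y) ↔ Tri D x y)

namespace Facts

variable [Finite G] (F : Facts D) (hrel : H99.Fi.NoRel D 7) {α : G → G} (hα : PairAut D α)
include F hrel hα

lemma shr_map {x y : G} (h : Shr D x y) : Shr D (α x) (α y) := by
  classical
  obtain ⟨htri, hle⟩ := h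
  refine ⟨(hα.tri x y htri.1 htri.2.1).2 htri, ?_⟩
  have hsub : {w | Tri D w (α x) ∧ Tri D w (α y)} ⊆ α '' {w | Tri D w x ∧ Tri D w y} := by
    intro w hw
    obtain ⟨v, hv, rfl⟩ := hα.surj w hw.1.1
    exact ⟨v, ⟨(hα.tri v x hv htri.1).1 hw.1, (hα.tri v y hv htri.2.1).1 hw.2⟩, rfl⟩
  exact ((Set.ncard_le_ncard hsub (Set.toFinite _)).trans (Set.ncard_image_le (Set.toFinite _))).trans hle

/-- The images of the three products of a commuting triple again come from a commuting triple. -/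
lemma image_triple {a b c : G} (ha : a ∈ D) (hb : b ∈ perp D a) (hc : c ∈ perp D a ∩ perp D b) :
    ∃ p q r, p ∈ D ∧ q ∈ perp D p ∧ r ∈ perp D p ∩ perp D q ∧
      α (a * b) = p * q ∧ α (a * c) = p * r ∧ α (b * c) = q * r := by
  obtain ⟨p, q, r, hp, hq, hr, e1, e2⟩ :=
    F.share_of_shr hrel (F.shr_map hrel hα (F.shr_share hrel ha hb hc))
  refine ⟨p, q, r, hp, hq, hr, e1, e2, ?_⟩
  have hbc : b * c = a * b * (a * c) := by
    symm
    calc a * b * (a * c) = a * (b * a) * c := by group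
      _ = a * (a * b) * c := by rw [pair_comm hb]
      _ = b * c := by rw [← mul_assoc, F.ce.sq a ha, one_mul]
  have h1 : IsPair D (a * b * (a * c)) := hbc ▸ ⟨b, hb.1, c, hc.2, rfl⟩
  rw [hbc, hα.mul _ _ ⟨a, ha, b, hb, rfl⟩ ⟨a, ha, c, hc.1, rfl⟩ h1, e1, e2]
  calc p * q * (p * r) = p * (q * p) * r := by group
    _ = p * (p * q) * r := by rw [pair_comm hq]
    _ = q * r := by rw [← mul_assoc, F.ce.sq p hp, one_mul]

/-- The member common to the images of a star. -/
lemma exists_centre {a : G} (ha : a ∈ D) :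
    ∃ p ∈ D, ∀ b ∈ perp D a, ∃ q ∈ perp D p, α (a * b) = p * q := by
  classical
  have hT := F.set.tt
  -- the member read off two adjacent partners
  let Good : G → G → G → Prop := fun p b c =>
    ∃ q r, p ∈ D ∧ q ∈ perp D p ∧ r ∈ perp D p ∩ perp D q ∧ α (a * b) = p * q ∧ α (a * c) = p * r
  have hex : ∀ b ∈ perp D a, ∀ c ∈ perp D a ∩ perp D b, ∃ p, Good p b c := fun b hb c hc => by
    obtain ⟨p, q, r, h1, h2, h3, h4, h5, -⟩ := F.image_triple hrel hα ha hb hc
    exact ⟨p, q, r, h1, h2, h3, h4, h5⟩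
  have hstep : ∀ b ∈ perp D a, ∀ c ∈ perp D a ∩ perp D b, ∀ f ∈ perp D a ∩ perp D b, f ∈ perp D c →
      ∀ p, Good p b c → Good p b f := by
    rintro b hb c hc f hf hfc p ⟨q, r, hp, hq, hr, e1, e2⟩
    obtain ⟨p', q', r', hp', hq', hr', e1', e2'⟩ := hex b hb f hf
    obtain ⟨s, u, t, hs, hu, ht, e3, e4⟩ := hex c hc.1 f ⟨hf.1, hfc⟩
    rcases pair_unique hT F.conj hrel hp hq hp' hq' (e1.symm.trans e1') with ⟨rfl, rfl⟩ | ⟨h1, h2⟩
    · exact ⟨q, r', hp, hq, hr', e1', e2'⟩
    -- otherwise the third image would be one of the first two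
    exfalso
    rw [← h2] at hr' e2'
    rw [e4] at e2'
    rcases pair_unique hT F.conj hrel hp hr.1 hs hu (e2.symm.trans e3) with ⟨h3, -⟩ | ⟨-, h3⟩
    · -- `s = p`
      rcases pair_unique hT F.conj hrel hs ht.1 hq.1 hr'.1 e2' with ⟨h5, -⟩ | ⟨h5, h6⟩
      · exact hq.2.1 (h5.symm.trans h3.symm)
      · have : α (a * f) = α (a * b) := by
          rw [e1, e4, h6, ← h3]
        exact hf.2.2.1 (mul_left_cancel (hα.inj _ _ ⟨a, ha, f, hf.1, rfl⟩ ⟨a, ha, b, hb, rfl⟩ this))
    · -- `s = r`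
      rcases pair_unique hT F.conj hrel hs ht.1 hq.1 hr'.1 e2' with ⟨h5, -⟩ | ⟨-, h6⟩
      · exact hr.2.2.1 (h3.trans h5)
      · -- the image of `a f` is `r q`, that of `b c`
        have hbc : α (a * f) = α (b * c) := by
          obtain ⟨p₁, q₁, r₁, k1, k2, k3, k4, k5, k6⟩ := F.image_triple hrel hα ha hb hc
          have hm : α (b * c) = α (a * b) * α (a * c) := by
            rw [← hα.mul _ _ ⟨a, ha, b, hb, rfl⟩ ⟨a, ha, c, hc.1, rfl⟩]
            · congr 1
              symm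
              calc a * b * (a * c) = a * (b * a) * c := by group
                _ = a * (a * b) * c := by rw [pair_comm hb]
                _ = b * c := by rw [← mul_assoc, F.ce.sq a ha, one_mul]
            · refine ⟨b, hb.1, c, hc.2, ?_⟩
              symm
              calc a * b * (a * c) = a * (b * a) * c := by group
                _ = a * (a * b) * c := by rw [pair_comm hb]
                _ = b * c := by rw [← mul_assoc, F.ce.sq a ha, one_mul]
          rw [hm, e1, e2, e4, h6, ← h3]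
          calc r * q = q * r := (pair_comm hr.2).symm
            _ = p * q * (p * r) := by
              symm
              calc p * q * (p * r) = p * (q * p) * r := by group
                _ = p * (p * q) * r := by rw [pair_comm hq]
                _ = q * r := by rw [← mul_assoc, F.ce.sq p hp, one_mul]
        rcases pair_unique hT F.conj hrel ha hf.1 hb.1 hc.2
            (hα.inj _ _ ⟨a, ha, f, hf.1, rfl⟩ ⟨b, hb.1, c, hc.2, rfl⟩ hbc) with ⟨h7, -⟩ | ⟨h7, -⟩
        · exact hb.2.1 h7.symm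
        · exact hc.1.2.1 h7.symm
  have hswap : ∀ b c p, c ∈ perp D a ∩ perp D b → Good p b c → Good p c b := by
    rintro b c p - ⟨q, r, hp, hq, hr, e1, e2⟩
    exact ⟨r, q, hp, hr.1, ⟨hq, perp_mem_symm hq.1 hr.2⟩, e2, e1⟩
  -- constant on the common partners
  have hconst : ∀ b ∈ perp D a, ∀ c ∈ perp D a ∩ perp D b, ∀ f ∈ perp D a ∩ perp D b,
      ∀ p, Good p b c → Good p b f := by
    intro b hb c hc f hf p hp
    have hpath := perp_connected F.set F.good.srg num_24 ha hb hc hf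
    induction hpath with
    | refl => exact hp
    | tail _ h ih => exact hstep b hb _ h.1 _ h.2.1 h.2.2 p (ih h.1)
  obtain ⟨b₀, hb₀⟩ := Set.nonempty_of_ncard_ne_zero (s := perp D a) (by rw [F.set.deg ha]; norm_num)
  obtain ⟨c₀, hc₀⟩ := Set.nonempty_of_ncard_ne_zero (s := perp D a ∩ perp D b₀)
    (by rw [F.set.adjCount ha hb₀]; norm_num)
  obtain ⟨p, hp⟩ := hex b₀ hb₀ c₀ hc₀
  obtain ⟨q₀, r₀, hpD, hq₀, -, e₀, -⟩ := id hp
  -- carried along the partners
  let Ok : G → Prop := fun b => ∀ c ∈ perp D a ∩ perp D b, Good p b c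
  have hok0 : Ok b₀ := fun c hc => hconst b₀ hb₀ c₀ hc₀ c hc p hp
  have hnext : ∀ b ∈ perp D a, Ok b → ∀ b' ∈ perp D a ∩ perp D b, Ok b' := by
    intro b hb hok b' hb' c hc
    exact hconst b' hb'.1 b ⟨hb, perp_mem_symm hb.1 hb'.2⟩ c hc p (hswap _ _ _ hb' (hok b' hb'))
  refine ⟨p, hpD, fun b hb => ?_⟩
  have hokb : Ok b := by
    by_cases he : b = b₀
    · rw [he]; exact hok0
    by_cases hcb : Commute b₀ b
    · exact hnext b₀ hb₀ hok0 b ⟨hb, hb.1, he, hcb⟩
    · obtain ⟨m, hm⟩ := Set.nonempty_of_ncard_ne_zero (s := perp (perp D a) b₀ ∩ perp (perp D a) b)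
        (by rw [(F.set.loc a ha).srg.nonadj b₀ hb₀ b hb hcb]; norm_num)
      rw [perp_perp, perp_perp] at hm
      exact hnext m hm.1.1 (hnext b₀ hb₀ hok0 m hm.1) b ⟨hb, perp_mem_symm hb.1 hm.2.2⟩
  obtain ⟨c, hc⟩ := Set.nonempty_of_ncard_ne_zero (s := perp D a ∩ perp D b)
    (by rw [F.set.adjCount ha hb]; norm_num)
  obtain ⟨q, r, -, hq, -, e, -⟩ := hokb c hc
  exact ⟨q, hq, e⟩

/-- The permutation of the class. -/
theorem exists_perm : ∃ π : G → G, Eqv D D π ∧ ∀ a ∈ D, ∀ b ∈ perp D a, α (a * b) = π a * π b := by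
  classical
  have hT := F.set.tt
  have hchoice : ∀ a : G, ∃ p : G,
      a ∈ D → p ∈ D ∧ ∀ b ∈ perp D a, ∃ q ∈ perp D p, α (a * b) = p * q := fun a => by
    by_cases ha : a ∈ D
    · obtain ⟨p, hp, h⟩ := F.exists_centre hrel hα ha
      exact ⟨p, fun _ => ⟨hp, h⟩⟩
    · exact ⟨1, fun h => absurd h ha⟩
  choose π hπ using hchoice
  have hmem : ∀ a ∈ D, π a ∈ D := fun a ha => (hπ a ha).1
  -- the star of the image is the image of the star
  have hstar : ∀ a ∈ D, ∀ q ∈ perp D (π a), ∃ b ∈ perp D a, α (a * b) = π a * q := by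
    intro a ha
    choose! f hf hfe using (hπ a ha).2
    have hinj : Set.InjOn f (perp D a) := fun b hb b' hb' h =>
      mul_left_cancel (hα.inj _ _ ⟨a, ha, b, hb, rfl⟩ ⟨a, ha, b', hb', rfl⟩ (by rw [hfe b hb, hfe b' hb', h]))
    have himg : f '' perp D a = perp D (π a) :=
      Set.eq_of_subset_of_ncard_le (by rintro _ ⟨b, hb, rfl⟩; exact hf b hb)
        (by rw [hinj.ncard_image, F.set.deg ha, F.set.deg (hmem a ha)]) (Set.toFinite _)
    intro q hq
    obtain ⟨b, hb, rfl⟩ := himg.symm ▸ hq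
    exact ⟨b, hb, hfe b hb⟩
  have hinjπ : Set.InjOn π D := by
    intro a ha a' ha' he
    by_contra hne
    have hall : ∀ b ∈ perp D a, b = a' := by
      intro b hb
      obtain ⟨q, hq, e⟩ := (hπ a ha).2 b hb
      obtain ⟨b', hb', e'⟩ := hstar a' ha' q (by rw [← he]; exact hq)
      rw [← he] at e'
      rcases pair_unique hT F.conj hrel ha hb ha' hb'
          (hα.inj _ _ ⟨a, ha, b, hb, rfl⟩ ⟨a', ha', b', hb', rfl⟩ (e.trans e'.symm)) with
        ⟨h, -⟩ | ⟨-, h⟩
      · exact absurd h hne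
      · exact h
    have h1 := Set.ncard_le_ncard (t := {a'}) (fun b hb => hall b hb) (Set.toFinite _)
    rw [F.set.deg ha, Set.ncard_singleton] at h1
    omega
  have hpair : ∀ a ∈ D, ∀ b ∈ perp D a, π b ∈ perp D (π a) ∧ α (a * b) = π a * π b := by
    intro a ha b hb
    obtain ⟨q, hq, e⟩ := (hπ a ha).2 b hb
    obtain ⟨q', hq', e'⟩ := (hπ b hb.1).2 a (perp_mem_symm ha hb)
    rw [← pair_comm hb, e] at e'
    rcases pair_unique hT F.conj hrel (hmem a ha) hq (hmem b hb.1) hq' e' with ⟨h, -⟩ | ⟨-, h⟩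
    · exact absurd (hinjπ ha hb.1 h) hb.2.1.symm
    · rw [← h]; exact ⟨hq, e⟩
  have hback : ∀ a ∈ D, ∀ b ∈ D, π b ∈ perp D (π a) → b ∈ perp D a := by
    intro a ha b hb h
    obtain ⟨b', hb', e⟩ := hstar a ha _ h
    rw [(hpair a ha b' hb').2] at e
    rwa [← hinjπ hb'.1 hb (mul_left_cancel e)]
  have hsurj : Set.SurjOn π D D := by
    have : π '' D = D := Set.eq_of_subset_of_ncard_le (by rintro _ ⟨a, ha, rfl⟩; exact hmem a ha)
      (by rw [hinjπ.ncard_image]) (Set.toFinite _)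
    exact fun z hz => this.symm ▸ hz
  refine ⟨π, ⟨⟨hmem, hinjπ, hsurj⟩, fun x hx y hy => ?_⟩, fun a ha b hb => (hpair a ha b hb).2⟩
  have hcomm : ∀ {u v : G}, u ∈ D → v ∈ D → (Commute (π u) (π v) ↔ Commute u v) := by
    intro u v hu hv
    by_cases he : u = v
    · rw [he]; exact iff_of_true (Commute.refl _) (Commute.refl _)
    · exact ⟨fun h => (hback u hu v hv ⟨hmem v hv, fun h' => he (hinjπ hv hu h').symm, h⟩).2.2,
        fun h => (hpair u hu v ⟨hv, Ne.symm he, h⟩).1.2.2⟩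
  by_cases hxy : Commute x y
  · rw [(F.ce.commute_iff hx y).1 hxy, (F.ce.commute_iff (hmem x hx) _).1 ((hcomm hx hy).2 hxy)]
  obtain ⟨hzD, hxz, hyz⟩ := tt_third hT F.conj hx hy hxy
  rcases no_four F.set F.good.srg num_24 (hmem x hx) (hmem y hy) (fun h => hxy ((hcomm hx hy).1 h))
      (hmem _ hzD) (fun h => hxz ((hcomm hx hzD).1 h)) (fun w hw => by
        obtain ⟨v, hv, rfl⟩ := hsurj hw.1.1
        have hxv := (hback x hx v hv hw.1).2.2
        have hyv := (hback y hy v hv hw.2).2.2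
        exact (hcomm hzD hv).2 ((hxv.mul_left hyv).mul_left hxv)) with h | h
  · exact absurd (hinjπ hzD hy h) (fun e => hyz (by rw [e]))
  · exact h

end Facts

end H98.M24
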