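/-
The centraliser of a product of two members is larger than that of a product of four.
-/
import Cfsg.Agent.H98.M24.Recover
import Cfsg.Agent.H84.Fischer.Quad
import Cfsg.Agent.H84.Fischer.Derived24

set_option autoImplicit false
set_option linter.unusedSectionVars false

namespace H98.M24

open Cfsg H99 H84.Fi
open H49.Parity (cen pp cp Cliq Ctx)
open scoped Classical

universe u

variable {G : Type u} [Group G] [Finite G] {D : Set G} (S : Fi24 D)
include S

/-- An upper bound for a product of four. -/
lemma quad_cent_le {t : G} {Q : Finset G} (hQ : IsQuad D t Q) :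
    Nat.card ↥(Subgroup.centralizer ({t} : Set G)) ≤ 38272 * (2 ^ 18 * 3 ^ 4 * 5) := by
  obtain ⟨a, b, c, e, hab, hac, hae, hbc, hbe, hce, rfl⟩ : ∃ a b c e, a ≠ b ∧ a ≠ c ∧ a ≠ e ∧
      b ≠ c ∧ b ≠ e ∧ c ≠ e ∧ Q = {a, b, c, e} := by
    obtain ⟨a, b, c, e, h1, h2, h3, h4, h5, h6, h⟩ := Finset.card_eq_four.1 hQ.2.1
    exact ⟨a, b, c, e, h1, h2, h3, h4, h5, h6, h⟩
  set Q : Finset G := {a, b, c, e} with hQdef
  set K := Subgroup.centralizer ({t} : Set G) with hK
  set F := (Set.toFinite (fixF D t)).toFinset with hF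
  choose! W hW hzW using fun z (hz : z ∈ fixF D t) => S.quad_exists hQ hz
  set T : Finset (G × G × G × G) := F.biUnion fun z => ({z} : Finset G) ×ˢ W z ×ˢ W z ×ˢ W z with hT
  have hTc : T.card ≤ 598 * 64 := by
    refine (Finset.card_biUnion_le_card_mul _ _ 64 fun z hz => ?_).trans ?_
    · simp only [Finset.card_product, Finset.card_singleton,
        (hW z (by simpa [hF] using hz)).2.1]
      norm_num
    · refine Nat.mul_le_mul_right 64 ?_
      have := S.fix_le hQ
      rwa [Set.ncard_eq_toFinset_card _ (Set.toFinite _)] at this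
  have hcle : cen Q ≤ K := fun g hg => Subgroup.mem_centralizer_singleton_iff.2 (by
    rw [← hQ.2.2]
    exact (H49.Parity.commute_pp hQ.1.2 (H49.Parity.mem_cen.1 hg)).eq)
  let img : ↥K → G × G × G × G := fun g => (cj (g : G) a, cj (g : G) b, cj (g : G) c, cj (g : G) e)
  have hwd : ∀ g h : ↥K, img g = img h ↔ g⁻¹ * h ∈ (cen Q).subgroupOf K := by
    intro g h
    rw [Subgroup.mem_subgroupOf, Subgroup.coe_mul, Subgroup.coe_inv, H49.Parity.mem_cen]
    have key : ∀ m, cj (g : G) m = cj (h : G) m ↔ Commute ((g : G)⁻¹ * h) m := fun m => by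
      rw [← cj_eq_iff, cj_mul]
      exact ⟨fun he => by rw [← he, cj_inv_self], fun he => by
        have := congrArg (cj (g : G)) he
        rwa [cj_self_inv, eq_comm] at this⟩
    simp only [img, Prod.mk.injEq, key, hQdef, Finset.forall_mem_insert, Finset.mem_singleton,
      forall_eq]
  let fq : ↥K ⧸ (cen Q).subgroupOf K → G × G × G × G :=
    Quotient.lift img fun g h hgh => (hwd g h).2 (QuotientGroup.leftRel_apply.1 hgh)
  have hinj : Function.Injective fq := by
    intro x y
    induction x using QuotientGroup.induction_on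
    induction y using QuotientGroup.induction_on
    exact fun h => QuotientGroup.eq.2 ((hwd _ _).1 h)
  have hmem : ∀ x, fq x ∈ T := by
    intro x
    induction x using QuotientGroup.induction_on with
    | _ g =>
      have hg : Commute (g : G) t := Subgroup.mem_centralizer_singleton_iff.1 g.2
      have hWg := S.quad_cimg hQ hg
      have hin : ∀ m ∈ Q, cj (g : G) m ∈ H49.Parity.cimg (g : G) Q := fun m hm =>
        Finset.mem_image_of_mem _ hm
      have hz : cj (g : G) a ∈ fixF D t := S.quad_fix hWg (hin a (by simp [hQdef]))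
      have hWeq : H49.Parity.cimg (g : G) Q = W (cj (g : G) a) :=
        S.quad_unique hWg (hW _ hz) (hin a (by simp [hQdef])) (hzW _ hz)
      show img g ∈ T
      simp only [hT, img, Finset.mem_biUnion, Finset.mem_product, Finset.mem_singleton]
      refine ⟨cj (g : G) a, by simpa [hF] using hz, rfl, ?_, ?_, ?_⟩ <;> rw [← hWeq] <;>
        exact hin _ (by simp [hQdef])
  have hidx : Nat.card (↥K ⧸ (cen Q).subgroupOf K) ≤ 598 * 64 := by
    refine le_trans ?_ hTc
    rw [← Nat.card_eq_finsetCard]
    exact Nat.card_le_card_of_injective (fun x => (⟨fq x, hmem x⟩ : ↥T))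
      (fun x y h => hinj (congrArg Subtype.val h))
  rw [Subgroup.card_eq_card_quotient_mul_card_subgroup ((cen Q).subgroupOf K),
    Nat.card_congr (Subgroup.subgroupOfEquivOfLe hcle).toEquiv,
    S.card_cen_four hQ.1 hQ.2.1]
  exact Nat.mul_le_mul_right _ hidx

/-- A lower bound for a product of two. -/
lemma pair_cent_ge {d e : G} (hd : d ∈ D) (he : e ∈ perp D d) :
    2432430 * (2 ^ 18 * 3 ^ 4 * 5) ≤ Nat.card ↥(Subgroup.centralizer ({d * e} : Set G)) := by
  have hM : Cliq D ({d, e} : Finset G) := by
    refine ⟨fun x hx => ?_, fun x hx y hy => ?_⟩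
    · simp only [Finset.coe_insert, Finset.coe_singleton, Set.mem_insert_iff,
        Set.mem_singleton_iff] at hx
      rcases hx with rfl | rfl
      exacts [hd, he.1]
    · simp only [Finset.mem_insert, Finset.mem_singleton] at hx hy
      rcases hx with rfl | rfl <;> rcases hy with rfl | rfl
      exacts [Commute.refl _, he.2.2, he.2.2.symm, Commute.refl _]
  have h2 := S.card_cen 2 (by norm_num) hM (Finset.card_pair he.2.1.symm)
  rw [S.ctx.card] at h2
  norm_num [Finset.prod_range_succ, Ctx.E] at h2
  have hle : Nat.card ↥(cen ({d, e} : Finset G)) ≤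
      Nat.card ↥(Subgroup.centralizer ({d * e} : Set G)) :=
    Subgroup.card_le_of_le (fun g hg => Subgroup.mem_centralizer_singleton_iff.2
      (((H49.Parity.mem_cen.1 hg d (by simp)).mul_right (H49.Parity.mem_cen.1 hg e (by simp))).eq))
  omega

end H98.M24
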