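/-
The outer automorphism group of the commutator subgroup at type M(24).
-/
import Cfsg.Agent.H98.M24.OutPair
import Cfsg.Agent.H98.M24.Iso
import Cfsg.Agent.H96.Fi23Out

set_option autoImplicit false
set_option linter.unusedSectionVars false

namespace H98.M24

open Cfsg H99 H65.Fischer
open H5.TT.Fac (Down qD Desc)
open scoped commutatorElement

universe u

variable {G : Type u} [Group G] {D : Set G}

/-- With every automorphism inner, every equivariant bijection is inner. -/
lemma innerOn_of_aut {E : Set G} (hE : CE E) (hgE : Subgroup.closure E = ⊤)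
    (hZ : Subgroup.center G = ⊥) (hA : ∀ a : MulAut G, ∃ x : G, MulAut.conj x * a = 1)
    {β : G → G} (hβ : Eqv E E β) : InnerOn E β := by
  obtain ⟨e, he⟩ := hβ.exists_mulEquiv hE hE hgE hgE hZ hZ
  obtain ⟨x, hx⟩ := hA e
  refine ⟨x⁻¹, hgE ▸ Subgroup.mem_top _, fun y hy => ?_⟩
  have h1 := DFunLike.congr_fun hx y
  rw [MulAut.mul_apply, MulAut.one_apply, MulAut.conj_apply, he y hy] at h1
  calc β y = cj x⁻¹ (cj x (β y)) := (cj_inv_self x _).symm
    _ = cj x⁻¹ y := congrArg (cj x⁻¹) h1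

variable [Finite G]

/-- A symmetry of a class of type M(24) is a conjugation. -/
theorem perm_inner (hD : IsThreeTranspositionGroup D) (hp : IsPrimitiveUnderConj D)
    (h : IsOfTypeM24 G D) {π : G → G} (hπ : Eqv D D π) : ∃ g : G, ∀ x ∈ D, π x = cj g x := by
  have F := facts_of_type iso22 hD hp h
  obtain ⟨d, hd, hdesc, hpX, hX⟩ := m24_down hD hp h
  have hX' := class_toGroup (H5.TT.Fac.qD_class hdesc)
  obtain ⟨e⟩ := iso23 _ _ hX' hpX hX
  obtain ⟨g, hg⟩ := class_isConj F.good.cls (hπ.mem hd) hd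
  have hγ : Eqv D D (cj g ∘ π) := hπ.trans (Eqv.ofConj g (by
    ext x
    refine ⟨fun ⟨y, hy, e⟩ => e ▸ F.conj g y hy, fun hx => ⟨cj g⁻¹ x, F.conj g⁻¹ x hx, cj_self_inv g x⟩⟩))
  have hγd : (cj g ∘ π) d = d := hg
  have hr : Eqv (perp D d) (perp D d) (cj g ∘ π) := by
    have := hγ.restrict F.ce F.ce hd
    rwa [hγd] at this
  have hce1 : CE (qD D d) := CE.of_class (H5.TT.Fac.qD_class hdesc)
  have hdn := eqv_dn hdesc F.ce hd
  obtain ⟨w, hw, hwx⟩ := hdn.innerOn_of (F.ce1 hd) hce1 hr.bij.mapsTo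
    (innerOn_of_aut hce1 (H5.TT.Fac.qD_class hdesc).2.2 hX.1 (fun a => by
      obtain ⟨x, hx⟩ := H96.Fi23Out.aut_inner (MulAut.congr e a)
      refine ⟨e.symm x, ?_⟩
      apply MulEquiv.ext
      intro v
      have := congrArg e.symm (DFunLike.congr_fun hx (e v))
      simpa [MulAut.congr] using this) (hdn.conjugate (F.ce1 hd) hce1 hr))
  -- what is left fixes `d` and its partners
  have hwd : cj w d = d := cj_eq (perpIns_commute (perp_closure_le hw))
  have hδ : Eqv D D (cj w⁻¹ ∘ (cj g ∘ π)) := hγ.trans (Eqv.ofConj w⁻¹ (by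
    ext x
    refine ⟨fun ⟨y, hy, e⟩ => e ▸ F.conj w⁻¹ y hy, fun hx => ⟨cj w x, F.conj w x hx, cj_inv_self w x⟩⟩))
  rcases extOne_of_good F.set F.good.srg num_24 d hd _ hδ (by
      show cj w⁻¹ ((cj g ∘ π) d) = d
      rw [hγd]
      conv_lhs => rw [← hwd, cj_inv_self])
    (fun y hy => by
      show cj w⁻¹ ((cj g ∘ π) y) = y
      rw [hwx y hy, cj_inv_self]) with k | k
  · refine ⟨g⁻¹ * w, fun x hx => ?_⟩
    have h1 : cj w⁻¹ (cj g (π x)) = x := k hx
    calc π x = cj g⁻¹ (cj w (cj w⁻¹ (cj g (π x)))) := by rw [cj_self_inv, cj_inv_self]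
      _ = cj (g⁻¹ * w) x := by rw [h1, cj_mul]
  · refine ⟨g⁻¹ * w * d, fun x hx => ?_⟩
    have h1 : cj w⁻¹ (cj g (π x)) = cj d x := k hx
    calc π x = cj g⁻¹ (cj w (cj w⁻¹ (cj g (π x)))) := by rw [cj_self_inv, cj_inv_self]
      _ = cj (g⁻¹ * w * d) x := by rw [h1, cj_mul, cj_mul]

/-- The products of commuting pairs generate the commutator subgroup. -/
lemma closure_pairs (hD : IsThreeTranspositionGroup D) (hp : IsPrimitiveUnderConj D)
    (h : IsOfTypeM24 G D) :
    (∀ x, IsPair D x → x ∈ commutator G) ∧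
      commutator G ≤ Subgroup.closure {x | IsPair D x} := by
  have F := facts_of_type iso22 hD hp h
  obtain ⟨ε, hε⟩ := F.parity
  have hmem : ∀ x, IsPair D x → x ∈ commutator G := by
    rintro x ⟨a, ha, b, hb, rfl⟩
    obtain ⟨g, rfl⟩ := class_isConj F.good.cls ha hb.1
    have : a * (g * a * g⁻¹) = ⁅a, g⁆ := by
      rw [commutatorElement_def, tt_inv F.set.tt ha]; group
    rw [this, commutator_def]
    exact Subgroup.commutator_mem_commutator (Subgroup.mem_top _) (Subgroup.mem_top _)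
  refine ⟨hmem, ?_⟩
  set P := Subgroup.closure {x | IsPair D x} with hP
  obtain ⟨d, hd, -⟩ := F.good.cls.2.1
  have hpd : ∀ a ∈ D, ∀ b ∈ D, a * b ∈ P := by
    intro a ha b hb
    by_cases hab : a = b
    · rw [hab, F.ce.sq b hb]; exact one_mem _
    by_cases hc : Commute a b
    · exact Subgroup.subset_closure ⟨a, ha, b, ⟨hb, Ne.symm hab, hc⟩, rfl⟩
    obtain ⟨q, hq⟩ := common_nonempty F.set F.good.srg num_24 ha hb hc
    have h1 : a * b = a * q * (q * b) := by
      rw [mul_assoc a q, ← mul_assoc q q, F.ce.sq q hq.1.1, one_mul]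
    rw [h1]
    exact mul_mem (Subgroup.subset_closure ⟨a, ha, q, hq.1, rfl⟩)
      (Subgroup.subset_closure ⟨q, hq.1.1, b, perp_mem_symm hb hq.2, rfl⟩)
  have hconj : ∀ z ∈ P, d * z * d ∈ P := fun z hz => by
    induction hz using Subgroup.closure_induction with
    | mem z hz =>
      obtain ⟨p, hp', q, hq, rfl⟩ := hz
      rw [show d * (p * q) * d = cj d p * cj d q by
        rw [cj_of_sq (F.ce.sq d hd), cj_of_sq (F.ce.sq d hd),
          show d * p * d * (d * q * d) = d * p * (d * d) * q * d by group, F.ce.sq d hd]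
        group]
      exact hpd _ (F.conj d p hp') _ (F.conj d q hq.1)
    | one => rw [mul_one, F.ce.sq d hd]; exact one_mem _
    | mul x y _ _ hx hy =>
      rw [show d * (x * y) * d = (d * x * d) * (d * y * d) by
        rw [show d * x * d * (d * y * d) = d * x * (d * d) * y * d by group, F.ce.sq d hd]
        group]
      exact mul_mem hx hy
    | inv x _ hx =>
      rw [show d * x⁻¹ * d = (d * x * d)⁻¹ by
        rw [mul_inv_rev, mul_inv_rev, F.ce.inv hd, mul_assoc]]
      exact inv_mem hx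
  let Q : G → Prop := fun g => (ε g = 1 ∧ g ∈ P) ∨ (ε g = -1 ∧ d * g ∈ P)
  have hstep : ∀ g, ∀ a ∈ D, Q g → Q (g * a) := by
    rintro g a ha (⟨h1, h2⟩ | ⟨h1, h2⟩)
    · refine Or.inr ⟨by rw [map_mul, h1, hε a ha, one_mul], ?_⟩
      have := mul_mem (hconj g h2) (hpd d hd a ha)
      rwa [show d * g * d * (d * a) = d * g * (d * d) * a by group, F.ce.sq d hd, mul_one,
        mul_assoc] at this
    · refine Or.inl ⟨by rw [map_mul, h1, hε a ha]; rfl, ?_⟩
      have := mul_mem (hconj _ h2) (hpd d hd a ha)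
      rwa [show d * (d * g) * d * (d * a) = (d * d) * g * (d * d) * a by group, F.ce.sq d hd,
        one_mul, mul_one] at this
  have key : ∀ g : G, g ∈ Subgroup.closure D → Q g := by
    intro g hg
    induction hg using Subgroup.closure_induction_right with
    | one => exact Or.inl ⟨map_one ε, one_mem _⟩
    | mul_right g _ a ha ih => exact hstep g a ha ih
    | mul_inv_cancel g _ a ha ih => rw [F.ce.inv ha]; exact hstep g a ha ih
  intro g hg
  have h1 : ε g = 1 := MonoidHom.mem_ker.1 (Abelianization.commutator_subset_ker ε hg)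
  rcases key g (F.good.cls.2.2 ▸ Subgroup.mem_top g) with h2 | h2
  · exact h2.2
  · rw [h1] at h2
    exact absurd h2.1 (by decide)

end H98.M24
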