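/-
The commutator subgroup at type M(24) has outer automorphism group of order two.
-/
import Cfsg.Agent.H98.M24.Out
import Cfsg.Prelude.Def_KGroupFacts

set_option autoImplicit false
set_option linter.unusedSectionVars false

namespace H98.M24

open Cfsg H99 H84.Fi

universe u

variable {G : Type u} [Group G] [Finite G] {D : Set G}

lemma pair_of_prod {x : G} : H99.Fi.IsProd D 2 x → IsPair D x := by
  rintro ⟨l, hl, hlen, rfl⟩
  obtain ⟨a, b, rfl⟩ := List.length_eq_two.1 hlen
  have hne : a ≠ b := by simpa using hl.1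
  exact ⟨a, hl.2.1 a (by simp), b, ⟨hl.2.1 b (by simp), hne.symm,
    hl.2.2 a (by simp) b (by simp)⟩, by simp⟩

lemma sign_prod {ε : G →* ℤˣ} (hε : ∀ d ∈ D, ε d = -1) {l : List G} (h : ∀ a ∈ l, a ∈ D) :
    ε l.prod = (-1) ^ l.length := by
  induction l with
  | nil => simp
  | cons a t ih =>
    rw [List.prod_cons, map_mul, hε a (h a (by simp)), ih fun b hb => h b (by simp [hb]),
      List.length_cons, pow_succ']

lemma card_cent_commutator (x : ↥(commutator G)) :
    Nat.card ↥(Subgroup.centralizer ({x} : Set ↥(commutator G))) =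
      Nat.card ↥(commutator G ⊓ Subgroup.centralizer ({(x : G)} : Set G)) := by
  refine Nat.card_congr ⟨fun y => ⟨((y : ↥(commutator G)) : G), (y : ↥(commutator G)).2,
      Subgroup.mem_centralizer_singleton_iff.2
        (congrArg Subtype.val (Subgroup.mem_centralizer_singleton_iff.1 y.2))⟩,
    fun y => ⟨⟨y, y.2.1⟩, Subgroup.mem_centralizer_singleton_iff.2
      (Subtype.ext (Subgroup.mem_centralizer_singleton_iff.1 y.2.2))⟩, fun _ => rfl, fun _ => rfl⟩

/-- An automorphism permutes the products of commuting pairs. -/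
lemma aut_pair (hD : IsThreeTranspositionGroup D) (hp : IsPrimitiveUnderConj D)
    (h : IsOfTypeM24 G D) (a : MulAut ↥(commutator G)) {x : ↥(commutator G)}
    (hx : IsPair D (x : G)) : IsPair D ((a x : ↥(commutator G)) : G) := by
  classical
  obtain ⟨S⟩ := fi24_of hD hp h
  obtain ⟨ε, hε⟩ := H49.Parity.exists_parity_m24 hD hp h
  obtain ⟨d, hd, e, he, hde⟩ := hx
  have h2 : orderOf ((a x : ↥(commutator G)) : G) = 2 := by
    rw [Subgroup.orderOf_coe, MulEquiv.orderOf_eq, ← Subgroup.orderOf_coe, ← hde]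
    refine orderOf_eq_prime ?_ fun h1 => ?_
    · rw [pow_two, show d * e * (d * e) = d * (e * d) * e by group, ← he.2.2.eq,
        show d * (d * e) * e = d * d * (e * e) by group, tt_mul_self S.tt hd,
        tt_mul_self S.tt he.1, mul_one]
    · exact he.2.1 ((inv_eq_of_mul_eq_one_right h1).symm.trans (tt_inv S.tt hd))
  obtain ⟨m, h1, h4, hm⟩ := S.invol _ h2
  obtain ⟨l, hl, hlen, hlp⟩ := hm
  have hε1 : ε ((a x : ↥(commutator G)) : G) = 1 :=
    MonoidHom.mem_ker.1 (Abelianization.commutator_subset_ker ε (a x).2)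
  rw [← hlp, sign_prod hε hl.2.1, hlen] at hε1
  have hm24 : m = 2 ∨ m = 4 := by
    interval_cases m <;> first | exact Or.inl rfl | exact Or.inr rfl | exact absurd hε1 (by decide)
  rcases hm24 with rfl | rfl
  · exact pair_of_prod ⟨l, hl, hlen, hlp⟩
  exfalso
  obtain ⟨c1, c2, c3⟩ := cliq_toFinset hl
  have hQ : IsQuad D ((a x : ↥(commutator G)) : G) l.toFinset :=
    ⟨c1, c2.trans hlen, c3.trans hlp⟩
  have e1 : Nat.card ↥(Subgroup.centralizer ({a x} : Set ↥(commutator G))) =
      Nat.card ↥(Subgroup.centralizer ({x} : Set ↥(commutator G))) := by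
    refine (Nat.card_congr (Equiv.subtypeEquiv a.toEquiv fun y => ?_)).symm
    show y ∈ Subgroup.centralizer ({x} : Set ↥(commutator G)) ↔
      a y ∈ Subgroup.centralizer ({a x} : Set ↥(commutator G))
    rw [Subgroup.mem_centralizer_singleton_iff, Subgroup.mem_centralizer_singleton_iff, ← map_mul,
      ← map_mul, a.injective.eq_iff]
  rw [card_cent_commutator, card_cent_commutator] at e1
  have u1 : Nat.card ↥(commutator G ⊓ Subgroup.centralizer ({((a x : ↥(commutator G)) : G)} : Set G)) ≤
      38272 * (2 ^ 18 * 3 ^ 4 * 5) :=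
    (Subgroup.card_le_of_le inf_le_right).trans (quad_cent_le S hQ)
  have u2 := pair_cent_ge S hd he
  have hdc : d ∈ Subgroup.centralizer ({d * e} : Set G) :=
    Subgroup.mem_centralizer_singleton_iff.2 ((Commute.refl d).mul_right he.2.2).eq
  rw [card_inf_commutator hD hp h hd hdc] at u2
  rw [hde] at u2
  omega

/-- The outer automorphism group of the commutator subgroup. -/
theorem card_out_commutator (hD : IsThreeTranspositionGroup D) (hp : IsPrimitiveUnderConj D)
    (h : IsOfTypeM24 G D) : Nat.card (Cfsg.Out ↥(commutator G)) = 2 := by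
  classical
  obtain ⟨S⟩ := fi24_of hD hp h
  have F := facts_of_type iso22 hD hp h
  obtain ⟨hmem, hgen⟩ := closure_pairs hD hp h
  have hD' := F.good.cls
  set θ : G →* MulAut ↥(commutator G) := MulAut.conjNormal
  have hθ : ∀ (g : G) (y : ↥(commutator G)), ((θ g y : ↥(commutator G)) : G) = cj g (y : G) :=
    fun g y => MulAut.conjNormal_apply g y
  -- injective
  have hinj : Function.Injective θ := by
    refine (injective_iff_map_eq_one θ).2 fun g hg => ?_
    have hfix : ∀ x, IsPair D x → cj g x = x := fun x hx => by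
      rw [← hθ g ⟨x, hmem x hx⟩, hg, MulAut.one_apply]
    refine eq_one_of_commute D hD'.2.2 h.1 g fun a ha => cj_eq_iff.1 ?_
    -- `a` is the member common to two products
    obtain ⟨b, hb⟩ := Set.nonempty_of_ncard_ne_zero (s := perp D a) (by rw [F.set.deg ha]; norm_num)
    obtain ⟨c, hc⟩ := Set.nonempty_of_ncard_ne_zero (s := perp D a ∩ perp D b)
      (by rw [F.set.adjCount ha hb]; norm_num)
    have hb' := perp_conj F.conj g hb
    have hc' := perp_conj F.conj g hc.1
    have ga : cj g a ∈ D := F.conj g a ha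
    have e1 : cj g a * cj g b = a * b := by
      rw [show cj g a * cj g b = cj g (a * b) by simp [cj, mul_assoc]]
      exact hfix _ ⟨a, ha, b, hb, rfl⟩
    have e2 : cj g a * cj g c = a * c := by
      rw [show cj g a * cj g c = cj g (a * c) by simp [cj, mul_assoc]]
      exact hfix _ ⟨a, ha, c, hc.1, rfl⟩
    rcases pair_unique S.tt F.conj S.noRel ga hb' ha hb e1 with ⟨k, -⟩ | ⟨k1, k2⟩
    · exact k
    rcases pair_unique S.tt F.conj S.noRel ga hc' ha hc.1 e2 with ⟨k, -⟩ | ⟨k3, k4⟩
    · exact k
    exact absurd (k3.symm.trans k1) hc.2.2.1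
  -- surjective
  have hsurj : Function.Surjective θ := by
    intro a
    let α : G → G := fun x => if hx : x ∈ commutator G then ((a ⟨x, hx⟩ : ↥(commutator G)) : G) else x
    have hα : ∀ y : ↥(commutator G), α y = ((a y : ↥(commutator G)) : G) := fun y => dif_pos y.2
    have hmaps : ∀ x, IsPair D x → IsPair D (α x) := fun x hx => by
      rw [hα ⟨x, hmem x hx⟩]; exact aut_pair hD hp h a (x := ⟨x, hmem x hx⟩) hx
    have hinjα : ∀ x y, IsPair D x → IsPair D y → α x = α y → x = y := fun x y hx hy he => by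
      rw [hα ⟨x, hmem x hx⟩, hα ⟨y, hmem y hy⟩] at he
      exact congrArg Subtype.val (a.injective (Subtype.ext he))
    have hsurjα : ∀ y, IsPair D y → ∃ x, IsPair D x ∧ α x = y := fun y hy => by
      have hx := aut_pair hD hp h a⁻¹ (x := ⟨y, hmem y hy⟩) hy
      refine ⟨_, hx, ?_⟩
      rw [hα]
      exact congrArg Subtype.val (a.apply_symm_apply ⟨y, hmem y hy⟩)
    have hmulα : ∀ x y, x ∈ commutator G → y ∈ commutator G → α (x * y) = α x * α y :=
      fun x y hx hy => by
        rw [hα ⟨x, hx⟩, hα ⟨y, hy⟩, show x * y = ((⟨x, hx⟩ * ⟨y, hy⟩ : ↥(commutator G)) : G) from rfl,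
          hα, map_mul]
        rfl
    have hpa : PairAut D α := by
      refine ⟨hmaps, hinjα, hsurjα, fun x y hx hy _ => hmulα x y (hmem x hx) (hmem y hy),
        fun x y hx hy => ?_⟩
      have hx' := hmem x hx
      have hy' := hmem y hy
      have hm := hmulα x y hx' hy'
      constructor
      · rintro ⟨-, -, hne, hc, hpr⟩
        refine ⟨hx, hy, fun he => hne (by rw [he]), ?_, ?_⟩
        · rw [hα ⟨x, hx'⟩, hα ⟨y, hy'⟩] at hc
          have h1 : a (⟨x, hx'⟩ * ⟨y, hy'⟩) = a (⟨y, hy'⟩ * ⟨x, hx'⟩) := by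
            rw [map_mul, map_mul]; exact Subtype.ext hc.eq
          exact congrArg Subtype.val (a.injective h1)
        · rw [← hm] at hpr
          obtain ⟨z, hz, hze⟩ := hsurjα _ hpr
          rw [hα ⟨z, hmem z hz⟩, show x * y = ((⟨x, hx'⟩ * ⟨y, hy'⟩ : ↥(commutator G)) : G) from rfl,
            hα] at hze
          have := congrArg Subtype.val (a.injective (Subtype.ext hze))
          show IsPair D (x * y)
          rw [show x * y = z from this.symm]
          exact hz
      · rintro ⟨-, -, hne, hc, hpr⟩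
        refine ⟨hmaps x hx, hmaps y hy, fun he => hne (hinjα x y hx hy he), ?_, hm ▸ hmaps _ hpr⟩
        show α x * α y = α y * α x
        rw [← hm, ← hmulα y x hy' hx', hc.eq]
    obtain ⟨π, hπ, hπα⟩ := F.exists_perm S.noRel hpa
    obtain ⟨g, hg⟩ := perm_inner hD hp h hπ
    refine ⟨g, ?_⟩
    let φ₁ : ↥(commutator G) →* G := (commutator G).subtype.comp (θ g).toMonoidHom
    let φ₂ : ↥(commutator G) →* G := (commutator G).subtype.comp a.toMonoidHom
    have hagree : φ₁ = φ₂ := by
      refine MonoidHom.eq_of_eqOn_dense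
        (s := ((↑) : ↥(commutator G) → G) ⁻¹' {x | IsPair D x}) ?_ ?_
      · have he : Subgroup.closure {x | IsPair D x} = commutator G :=
          le_antisymm ((Subgroup.closure_le _).2 hmem) hgen
        apply Subgroup.map_injective (commutator G).subtype_injective
        rw [MonoidHom.map_closure, Subgroup.coe_subtype,
          Set.image_preimage_eq_of_subset (fun x hx => ⟨⟨x, hmem x hx⟩, rfl⟩), he,
          ← MonoidHom.range_eq_map, Subgroup.range_subtype]
      · intro y hy
        obtain ⟨p, hp', q, hq, hpq⟩ := hy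
        show ((θ g y : ↥(commutator G)) : G) = ((a y : ↥(commutator G)) : G)
        rw [hθ, ← hα y, ← hpq, hπα p hp' q hq, hg p hp', hg q hq.1]
        simp [cj, mul_assoc]
    apply MulEquiv.ext
    intro y
    exact Subtype.ext (DFunLike.congr_fun hagree y)
  have hInn : Inn ↥(commutator G) = (commutator G).map θ := by
    ext a
    constructor
    · rintro ⟨y, rfl⟩
      exact ⟨y, y.2, MulEquiv.ext fun z => Subtype.ext (by rw [hθ]; rfl)⟩
    · rintro ⟨g, hg, rfl⟩
      exact ⟨⟨g, hg⟩, MulEquiv.ext fun z => Subtype.ext (by rw [hθ]; rfl)⟩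
  rw [Cfsg.Out, ← Subgroup.index_eq_card, hInn]
  rw [Subgroup.index_map_of_bijective ⟨hinj, hsurj⟩]
  exact index_commutator hD hp h

end H98.M24
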